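import Mathlib

/-!
# Degrees with two odd prime divisors in the principal block at a Klein four Sylow subgroup
-/

set_option autoImplicit false

namespace Cfsg.Agent.BlocksChars.CofactorFourThree

/-- Only the primes `p` and `q` divide `n`. -/
def TwoPr (p q n : ℕ) : Prop := ∀ s : ℕ, s.Prime → s ∣ n → s = p ∨ s = q

variable {p q : ℕ}

theorem TwoPr.symm {n : ℕ} (h : TwoPr p q n) : TwoPr q p n := fun s hs hd => (h s hs hd).symm

theorem TwoPr.dvd {n m : ℕ} (h : TwoPr p q n) (hd : m ∣ n) : TwoPr p q m :=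
  fun s hs hm => h s hs (hm.trans hd)

/-- Coprime numbers use different primes. -/
theorem unique_prime {x y : ℕ} (hx : TwoPr p q x) (hy : TwoPr p q y) (hxy : x.Coprime y)
    (hy1 : 1 < y) :
    ∀ s t : ℕ, s.Prime → t.Prime → s ∣ x → t ∣ x → s = t := by
  intro s t hs ht hsx htx
  by_contra hne
  obtain ⟨r, hr, hry⟩ := Nat.exists_prime_and_dvd (by omega : y ≠ 1)
  have h : r = s ∨ r = t := by
    rcases hy r hr hry with h | h <;> rcases hx s hs hsx with h' | h' <;>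
      rcases hx t ht htx with h'' | h'' <;> omega
  rcases h with rfl | rfl
  · exact hr.not_dvd_one (hxy.gcd_eq_one ▸ Nat.dvd_gcd hsx hry)
  · exact hr.not_dvd_one (hxy.gcd_eq_one ▸ Nat.dvd_gcd htx hry)

theorem coprime_shift {x u : ℕ} (h : x = 2 * u + 1 ∨ x + 1 = 2 * u) : x.Coprime u := by
  refine Nat.coprime_of_dvd fun r hr hrx hru => hr.not_dvd_one ?_
  have h2 : r ∣ 2 * u := hru.mul_left 2
  rcases h with h | h
  · exact (Nat.dvd_add_right h2).1 (h ▸ hrx)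
  · exact (Nat.dvd_add_right hrx).1 (h ▸ h2)

/-- The common part: `x₁ + x₂ = 2 u₃` and `x₃ = 2 u₁ + x₂`. -/
theorem core {x₁ x₂ x₃ u₁ u₃ : ℕ} (h1 : TwoPr p q x₁) (h2 : TwoPr p q x₂) (h3 : TwoPr p q x₃)
    (k1 : TwoPr p q u₁) (k3 : TwoPr p q u₃) (hx1 : 1 < x₁) (hx2 : 1 < x₂) (hx3 : 1 < x₃)
    (hu1 : 1 < u₁) (hu3 : 1 < u₃) (hc1 : x₁.Coprime u₁) (hc3 : x₃.Coprime u₃)
    (hx2p : ∀ s t : ℕ, s.Prime → t.Prime → s ∣ x₂ → t ∣ x₂ → s = t)
    (hsum : x₁ + x₂ = 2 * u₃) (hx3eq : x₃ = 2 * u₁ + x₂) (hodd : Odd x₁) : False := by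
  obtain ⟨r, hr, hr1⟩ := Nat.exists_prime_and_dvd (by omega : x₁ ≠ 1)
  obtain ⟨s, hs, hs3⟩ := Nat.exists_prime_and_dvd (by omega : u₃ ≠ 1)
  obtain ⟨t, ht, ht2⟩ := Nat.exists_prime_and_dvd (by omega : x₂ ≠ 1)
  obtain ⟨w, hw, hw1⟩ := Nat.exists_prime_and_dvd (by omega : u₁ ≠ 1)
  obtain ⟨v, hv, hv3⟩ := Nat.exists_prime_and_dvd (by omega : x₃ ≠ 1)
  have hwr : w ≠ r := fun e => hr.not_dvd_one (hc1.gcd_eq_one ▸ Nat.dvd_gcd hr1 (e ▸ hw1))
  have hvs : v ≠ s := fun e => hs.not_dvd_one (hc3.gcd_eq_one ▸ Nat.dvd_gcd (e ▸ hv3) hs3)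
  have hs12 : s ∣ x₁ + x₂ := hsum ▸ hs3.mul_left 2
  have hsr : s = r := by
    by_contra hne
    have hs1 : ¬ s ∣ x₁ := fun h => hne (unique_prime h1 k1 hc1 hu1 s r hs hr h hr1)
    have hs2 : ¬ s ∣ x₂ := fun h => hs1 ((Nat.dvd_add_left h).1 hs12)
    have hts : t ≠ s := fun e => hs2 (e ▸ ht2)
    have htr : t = r := by
      rcases h2 t ht ht2 with h | h <;> rcases h1 r hr hr1 with h' | h' <;>
        rcases k3 s hs hs3 with h'' | h'' <;> omega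
    have h2u : r ∣ 2 * u₃ := hsum ▸ dvd_add hr1 (htr ▸ ht2)
    rcases (hr.dvd_mul).1 h2u with h | h
    · obtain ⟨j, hj⟩ := hodd
      have := (Nat.prime_dvd_prime_iff_eq hr Nat.prime_two).1 h
      subst this
      omega
    · exact hne (unique_prime k3 h3 hc3.symm hx3 s r hs hr hs3 h)
  subst hsr
  have hvw : v = w := by
    rcases h3 v hv hv3 with h | h <;> rcases k1 w hw hw1 with h' | h' <;>
      rcases h1 s hs hr1 with h'' | h'' <;> omega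
  have hw2 : w ∣ x₂ := by
    refine (Nat.dvd_add_right (hw1.mul_left 2)).1 ?_
    rw [← hx3eq]
    exact hvw ▸ hv3
  exact hwr (hx2p w s hw hs hw2 ((Nat.dvd_add_right hr1).1 hs12))

/-- Two positive signs and one negative are impossible. -/
theorem plus_case {x₁ x₂ x₃ u₁ u₂ u₃ : ℕ} (h1 : TwoPr p q x₁) (h2 : TwoPr p q x₂)
    (h3 : TwoPr p q x₃) (k1 : TwoPr p q u₁) (k2 : TwoPr p q u₂) (k3 : TwoPr p q u₃)
    (hx1 : 3 ≤ x₁) (hx2 : 3 ≤ x₂) (e1 : x₁ + 1 = 2 * u₁) (e2 : x₂ + 1 = 2 * u₂)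
    (e3 : x₃ = 2 * u₃ + 1) (hrel : x₃ = x₁ + x₂ + 1) : False :=
  core h1 h2 h3 k1 k3 (by omega) (by omega) (by omega) (by omega) (by omega)
    (coprime_shift (Or.inr e1)) (coprime_shift (Or.inl e3))
    (unique_prime h2 k2 (coprime_shift (Or.inr e2)) (by omega)) (by omega) (by omega)
    (Nat.odd_iff.2 (by omega))

/-- Two negative signs and one positive: the degrees of `A₅`. -/
theorem minus_case {x₁ x₂ x₃ u₁ u₂ u₃ : ℕ} (h1 : TwoPr p q x₁) (h2 : TwoPr p q x₂)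
    (h3 : TwoPr p q x₃) (k1 : TwoPr p q u₁) (k2 : TwoPr p q u₂) (k3 : TwoPr p q u₃)
    (hx1 : 3 ≤ x₁) (hx2 : 3 ≤ x₂) (e1 : x₁ = 2 * u₁ + 1) (e2 : x₂ = 2 * u₂ + 1)
    (e3 : x₃ + 1 = 2 * u₃) (hrel : x₃ + 1 = x₁ + x₂) : x₁ = 3 ∧ x₂ = 3 ∧ x₃ = 5 := by
  have huniq : ∀ {x u : ℕ}, TwoPr p q x → TwoPr p q u → x = 2 * u + 1 → 3 ≤ x →
      ∀ s t : ℕ, s.Prime → t.Prime → s ∣ x → t ∣ x → s = t := by
    intro x u hx hu e h3x s t hs ht hsx htx
    rcases (show u = 1 ∨ 1 < u by omega) with rfl | h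
    · subst e
      rw [(Nat.prime_dvd_prime_iff_eq hs Nat.prime_three).1 hsx,
        (Nat.prime_dvd_prime_iff_eq ht Nat.prime_three).1 htx]
    · exact unique_prime hx hu (coprime_shift (Or.inl e)) h s t hs ht hsx htx
  have hu1 : u₁ = 1 := by
    by_contra hne
    exact core h1 h2 h3 k1 k3 (by omega) (by omega) (by omega) (by omega) (by omega)
      (coprime_shift (Or.inl e1)) (coprime_shift (Or.inr e3)) (huniq h2 k2 e2 hx2) (by omega)
      (by omega) (Nat.odd_iff.2 (by omega))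
  have hu2 : u₂ = 1 := by
    by_contra hne
    exact core h2 h1 h3 k2 k3 (by omega) (by omega) (by omega) (by omega) (by omega)
      (coprime_shift (Or.inl e2)) (coprime_shift (Or.inr e3)) (huniq h1 k1 e1 hx1) (by omega)
      (by omega) (Nat.odd_iff.2 (by omega))
  omega

end Cfsg.Agent.BlocksChars.CofactorFourThree
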