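import Mathlib
import Cfsg.Agent.BlocksChars.PrimeDegrees

/-!
# Centralizers of odd prime order elements under a real faithful character of degree three
-/

set_option autoImplicit false
set_option linter.style.haveILetI false
set_option linter.unusedSectionVars false

namespace Cfsg.Agent.BlocksChars.CofactorFourThree

open Cfsg.Agent.Characters
open scoped ComplexConjugate

theorem sum_pow_root {r : ℕ} {x : ℂ} (hx : x ^ r = 1) :
    ∑ k ∈ Finset.range r, x ^ k = if x = 1 then (r : ℂ) else 0 := by
  split_ifs with h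
  · simp [h]
  · rw [geom_sum_eq h, hx, sub_self, zero_div]

/-- Roots of unity of odd order, three of them, with all power sums real, are distinct unless
all trivial. -/
theorem distinct_of_real {ι : Type*} [Fintype ι] (h3 : Fintype.card ι = 3) {r : ℕ} (hr : Odd r)
    (w : ι → ℂ) (hw : ∀ i, w i ^ r = 1) (hreal : ∀ k : ℕ, conj (∑ i, w i ^ k) = ∑ i, w i ^ k)
    (hne : ∃ i, w i ≠ 1) : Function.Injective w := by
  classical
  have hr0 : (r : ℂ) ≠ 0 := Nat.cast_ne_zero.2 (by rintro rfl; exact Nat.not_odd_zero hr)
  let cnt : ℂ → ℕ := fun ζ => (Finset.univ.filter fun i => w i = ζ).card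
  have hcnt : ∀ ζ : ℂ, ζ ^ r = 1 → ζ ≠ 0 → (cnt ζ : ℂ) * r =
      ∑ k ∈ Finset.range r, (ζ⁻¹) ^ k * ∑ i, w i ^ k := by
    intro ζ hζ hζ0
    simp only [Finset.mul_sum, ← mul_pow]
    rw [Finset.sum_comm, Finset.sum_congr rfl fun i _ => sum_pow_root (r := r) (x := ζ⁻¹ * w i)
      (by rw [mul_pow, inv_pow, hζ, hw, inv_one, one_mul]), Finset.sum_ite, Finset.sum_const_zero,
      add_zero, Finset.sum_const, nsmul_eq_mul]
    have he : (Finset.univ.filter fun i => w i = ζ) =
        Finset.univ.filter fun i => ζ⁻¹ * w i = 1 :=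
      Finset.filter_congr fun i _ => by rw [inv_mul_eq_one₀ hζ0]; exact eq_comm
    simp only [cnt, he]
  have hnorm : ∀ ζ : ℂ, ζ ^ r = 1 → ‖ζ‖ = 1 := fun ζ hζ =>
    Complex.norm_eq_one_of_pow_eq_one hζ (by rintro rfl; exact Nat.not_odd_zero hr)
  have hsym : ∀ i, cnt (w i) = cnt (conj (w i)) := by
    intro i
    have hi0 : w i ≠ 0 := fun e => by
      have := hnorm _ (hw i); rw [e, norm_zero] at this; exact zero_ne_one this
    have hc : conj (w i) ^ r = 1 := by rw [← map_pow, hw, map_one]
    have hc0 : conj (w i) ≠ 0 := by simpa using hi0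
    have h1 := congrArg conj (hcnt _ (hw i) hi0)
    simp only [map_mul, map_natCast, map_sum, map_pow, map_inv₀] at h1
    have h2 : ∀ k, ∑ j, conj (w j) ^ k = ∑ j, w j ^ k := fun k => by
      rw [← hreal k]; simp [map_sum]
    simp only [h2] at h1
    rw [← hcnt _ hc hc0] at h1
    exact_mod_cast mul_right_cancel₀ hr0 h1
  intro i j hij
  by_contra hne'
  have h2 : 2 ≤ cnt (w i) := by
    have hs : ({i, j} : Finset ι) ⊆ Finset.univ.filter fun l => w l = w i := by
      intro l hl
      rcases Finset.mem_insert.1 hl with rfl | hl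
      · simp
      · rw [Finset.mem_singleton] at hl; simp [hl, hij]
    have := Finset.card_le_card hs
    rwa [Finset.card_pair hne'] at this
  by_cases hfix : conj (w i) = w i
  · have h1 : w i = 1 := by
      have him := Complex.conj_eq_iff_re.1 hfix
      rw [← him] at hij ⊢
      have hwr := hw i
      rw [← him, ← Complex.ofReal_pow, Complex.ofReal_eq_one] at hwr
      rw [Complex.ofReal_eq_one]
      exact (hr.pow_inj).1 (hwr.trans (one_pow r).symm)
    obtain ⟨l, hl⟩ := hne
    have hlne : conj (w l) ≠ 1 := fun e => hl (by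
      have := congrArg conj e; rwa [Complex.conj_conj, map_one] at this)
    have hcl : 1 ≤ cnt (conj (w l)) := by
      rw [← hsym l]
      exact Finset.card_pos.2 ⟨l, by simp⟩
    by_cases hlfix : conj (w l) = w l
    · have him := Complex.conj_eq_iff_re.1 hlfix
      refine hl ?_
      rw [← him]
      have hwr := hw l
      rw [← him, ← Complex.ofReal_pow, Complex.ofReal_eq_one] at hwr
      rw [Complex.ofReal_eq_one]
      exact (hr.pow_inj).1 (hwr.trans (one_pow r).symm)
    · have hdis : cnt (w i) + cnt (w l) + cnt (conj (w l)) ≤ 3 := by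
        rw [← h3, ← Finset.card_univ]
        show (Finset.univ.filter _).card + (Finset.univ.filter _).card +
          (Finset.univ.filter _).card ≤ _
        rw [← Finset.card_union_of_disjoint, ← Finset.card_union_of_disjoint]
        · exact Finset.card_le_card (Finset.subset_univ _)
        · rw [Finset.disjoint_union_left]
          refine ⟨Finset.disjoint_filter.2 fun k _ a b => hlne (b.symm.trans (a.trans h1)),
            Finset.disjoint_filter.2 fun k _ a b => hlfix (b.symm.trans a)⟩
        · exact Finset.disjoint_filter.2 fun k _ a b => hl (b.symm.trans (a.trans h1))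
      have : 1 ≤ cnt (w l) := Finset.card_pos.2 ⟨l, by simp⟩
      omega
  · have hdis : cnt (w i) + cnt (conj (w i)) ≤ 3 := by
      rw [← h3, ← Finset.card_univ]
      show (Finset.univ.filter _).card + (Finset.univ.filter _).card ≤ _
      rw [← Finset.card_union_of_disjoint (Finset.disjoint_filter.2 fun k _ a b =>
        hfix (b.symm.trans a))]
      exact Finset.card_le_card (Finset.subset_univ _)
    rw [← hsym i] at hdis
    omega

variable {G : Type*} [Group G] [Finite G]

/-- The centralizer of an element of odd prime order is abelian. -/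
theorem comm_of_real_three (χ : Cfsg.IrrCharacter G)
    (hfaith : ∀ g : G, (χ : G → ℂ) g = (χ : G → ℂ) 1 → g = 1) (h3 : (χ : G → ℂ) 1 = 3)
    (hreal : ∀ g : G, conj ((χ : G → ℂ) g) = (χ : G → ℂ) g) {z : G} (hz : Odd (orderOf z))
    (hz1 : z ≠ 1) {g h : G} (hg : g * z = z * g) (hh : h * z = z * h) : g * h = h * g := by
  classical
  obtain ⟨n, ρ, -, hchar⟩ := χ.2
  have hn : Module.finrank ℂ (Fin n → ℂ) = 3 := by
    have h1 := ρ.char_one
    rw [hchar, h3] at h1
    exact_mod_cast h1.symm
  obtain ⟨b, w, hw, hb⟩ := exists_eigenbasis ρ z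
  have hpow : ∀ k : ℕ, ρ.character (z ^ k) = ∑ i, w i ^ k := fun k =>
    trace_of_eigenbasis b _ (fun i => apply_pow_eigenbasis ρ b w hb k i)
  have hinj : Function.Injective w := by
    refine distinct_of_real (by rw [Fintype.card_fin, hn]) hz w hw (fun k => ?_) ?_
    · rw [← hpow, hchar]; exact hreal _
    · by_contra! hall
      refine hz1 (hfaith z ?_)
      have h1 := hpow 1
      rw [pow_one, hchar] at h1
      rw [h1, h3]
      simp [hall, hn]
  have hinjρ : ∀ a : G, ρ a = LinearMap.id → a = 1 := fun a ha => hfaith a (by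
    have := (rep_apply_eq_id_iff ρ a).1 ha
    rwa [hchar] at this)
  have hline : ∀ a : G, a * z = z * a → ∀ i, ∃ c : ℂ, ρ a (b i) = c • b i := by
    intro a ha i
    refine ⟨b.repr (ρ a (b i)) i, ?_⟩
    refine b.repr.injective (Finsupp.ext fun j => ?_)
    rw [map_smul, b.repr_self, Finsupp.smul_apply, smul_eq_mul]
    by_cases hji : j = i
    · subst hji; rw [Finsupp.single_eq_same, mul_one]
    rw [Finsupp.single_eq_of_ne hji, mul_zero]
    have hv : ρ z (ρ a (b i)) = w i • ρ a (b i) := by
      rw [← Module.End.mul_apply, ← map_mul, ← ha, map_mul, Module.End.mul_apply, hb, map_smul]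
    have h1 : b.repr (ρ z (ρ a (b i))) j = w j * b.repr (ρ a (b i)) j := by
      conv_lhs => rw [← b.sum_repr (ρ a (b i)), map_sum]
      simp only [map_smul, hb, map_sum, Finsupp.finsetSum_apply, Finsupp.smul_apply,
        Module.Basis.repr_self, smul_eq_mul]
      rw [Finset.sum_eq_single j (fun k _ hk => by
        rw [Finsupp.single_eq_of_ne (Ne.symm hk), mul_zero, mul_zero]) (by simp)]
      rw [Finsupp.single_eq_same, mul_one, mul_comm]
    rw [hv, map_smul, Finsupp.smul_apply, smul_eq_mul] at h1
    have h2 : (w i - w j) * b.repr (ρ a (b i)) j = 0 := by rw [sub_mul, h1, sub_self]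
    exact (mul_eq_zero.1 h2).resolve_left (sub_ne_zero.2 fun e => hji (hinj e).symm)
  have key : ρ (g * h) = ρ (h * g) := b.ext fun i => by
    obtain ⟨c, hc⟩ := hline g hg i
    obtain ⟨d, hd⟩ := hline h hh i
    rw [map_mul, map_mul, Module.End.mul_apply, Module.End.mul_apply, hd, hc, map_smul, map_smul,
      hc, hd, smul_smul, smul_smul, mul_comm]
  refine mul_inv_eq_one.1 (hinjρ _ ?_)
  rw [map_mul, key, ← map_mul, mul_inv_cancel, map_one]
  rfl

end Cfsg.Agent.BlocksChars.CofactorFourThree
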