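import Mathlib
import Cfsg.Agent.BlockCharsA.KleinOrder
import Cfsg.Agent.BlockCharsA.DefectZeroVanish
import Cfsg.Agent.BlocksChars.IndicatorRestrict
import Cfsg.Agent.BlocksChars.Degrees
import Cfsg.Agent.BlocksChars.PrimeDegrees
import Cfsg.Agent.Lib.Blocks.GroupAlgebra
import Cfsg.Agent.BlocksChars.CofactorFourThree.Arith
import Cfsg.Agent.BlocksChars.CofactorFourThree.RealThree

/-!
# Simple groups of order four times two odd prime powers
-/

set_option autoImplicit false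
set_option linter.style.haveILetI false
set_option linter.unusedSectionVars false

namespace Cfsg.Agent.BlocksChars.CofactorFourThree

open Cfsg.Agent.Blocks Cfsg.Agent.Characters Cfsg.Agent.BlockCharsA Cfsg.Agent.ZStar
open scoped ComplexConjugate

theorem TwoPr.mul {p q x y : ℕ} (hx : TwoPr p q x) (hy : TwoPr p q y) : TwoPr p q (x * y) :=
  fun s hs h => (hs.dvd_mul.1 h).elim (hx s hs) (hy s hs)

theorem TwoPr.pow {p q : ℕ} (hp : p.Prime) (hq : q.Prime) (a b : ℕ) :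
    TwoPr p q (p ^ a * q ^ b) := fun s hs h =>
  (hs.dvd_mul.1 h).imp (fun h => (Nat.prime_dvd_prime_iff_eq hs hp).1 (hs.dvd_of_dvd_pow h))
    fun h => (Nat.prime_dvd_prime_iff_eq hs hq).1 (hs.dvd_of_dvd_pow h)

/-- The signs and degrees. -/
theorem signs {p q x₁ x₂ x₃ u₁ u₂ u₃ : ℕ} {e₁ e₂ e₃ : ℤ} (h₁ : e₁ = 1 ∨ e₁ = -1)
    (h₂ : e₂ = 1 ∨ e₂ = -1) (h₃ : e₃ = 1 ∨ e₃ = -1) (hx₁ : 3 ≤ x₁) (hx₂ : 3 ≤ x₂) (hx₃ : 3 ≤ x₃)
    (t₁ : TwoPr p q x₁) (t₂ : TwoPr p q x₂) (t₃ : TwoPr p q x₃)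
    (k₁ : TwoPr p q u₁) (k₂ : TwoPr p q u₂) (k₃ : TwoPr p q u₃)
    (q₁ : (x₁ : ℤ) + e₁ = 2 * u₁) (q₂ : (x₂ : ℤ) + e₂ = 2 * u₂) (q₃ : (x₃ : ℤ) + e₃ = 2 * u₃)
    (hrel : 1 + e₁ * x₁ + e₂ * x₂ + e₃ * x₃ = 0) :
    (x₁ = 3 ∧ x₂ = 3 ∧ x₃ = 5 ∧ e₁ = -1 ∧ e₂ = -1 ∧ e₃ = 1) ∨
      (x₁ = 3 ∧ x₃ = 3 ∧ x₂ = 5 ∧ e₁ = -1 ∧ e₃ = -1 ∧ e₂ = 1) ∨
      (x₂ = 3 ∧ x₃ = 3 ∧ x₁ = 5 ∧ e₂ = -1 ∧ e₃ = -1 ∧ e₁ = 1) := by
  rcases h₁ with rfl | rfl <;> rcases h₂ with rfl | rfl <;> rcases h₃ with rfl | rfl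
  · omega
  · exact (plus_case t₁ t₂ t₃ k₁ k₂ k₃ hx₁ hx₂ (by omega) (by omega) (by omega) (by omega)).elim
  · exact (plus_case t₁ t₃ t₂ k₁ k₃ k₂ hx₁ hx₃ (by omega) (by omega) (by omega) (by omega)).elim
  · have := minus_case t₂ t₃ t₁ k₂ k₃ k₁ hx₂ hx₃ (by omega) (by omega) (by omega) (by omega)
    omega
  · exact (plus_case t₂ t₃ t₁ k₂ k₃ k₁ hx₂ hx₃ (by omega) (by omega) (by omega) (by omega)).elim
  · have := minus_case t₁ t₃ t₂ k₁ k₃ k₂ hx₁ hx₃ (by omega) (by omega) (by omega) (by omega)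
    omega
  · have := minus_case t₁ t₂ t₃ k₁ k₂ k₃ hx₁ hx₂ (by omega) (by omega) (by omega) (by omega)
    omega
  · omega

universe u

variable {G : Type u} [Group G] [Finite G] [IsSimpleGroup G]

/-- A simple group of order `4 pᵃ qᵇ` with `p`, `q` odd has order 60. -/
theorem four_case (hG : ¬ ∀ x y : G, x * y = y * x) {p q a b : ℕ} (hp : p.Prime) (hq : q.Prime)
    (hp2 : p ≠ 2) (hq2 : q ≠ 2) (hcard : Nat.card G = 4 * (p ^ a * q ^ b)) :
    Nat.card G = 60 := by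
  classical
  haveI := Fintype.ofFinite G
  haveI := Fintype.ofFinite (Cfsg.IrrCharacter G)
  haveI := Fact.mk Nat.prime_two
  set m := p ^ a * q ^ b with hm
  have hmodd : Odd m := ((hp.odd_of_ne_two hp2).pow).mul (hq.odd_of_ne_two hq2).pow
  have hTm : TwoPr p q m := TwoPr.pow hp hq a b
  have hnc : ¬ ∃ N : Subgroup G, N.Normal ∧ Nat.card N = m := by
    rintro ⟨N, hN, hc⟩
    rcases hN.eq_bot_or_eq_top with rfl | rfl
    · rw [Subgroup.card_bot] at hc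
      rw [← hc, mul_one] at hcard
      exact hG (IsPGroup.commutative_of_card_eq_prime_sq (p := 2) (by rw [hcard]; norm_num))
    · rw [Subgroup.card_top, hcard] at hc
      have := hmodd.pos
      omega
  obtain ⟨P⟩ : Nonempty (Sylow 2 G) := inferInstance
  obtain ⟨hV, hone⟩ := KleinOrder.setting P hmodd hcard hnc
  obtain ⟨M, hM⟩ := BlockCharsA.DefectZeroVanish.exists_modular Nat.prime_two
  obtain ⟨J, hJ2, hJ⟩ := KleinFour.exists_involution P hV hone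
  obtain ⟨B', a', hmem', -, hval', -, hS⟩ := KleinOrder.order_formula hM P hV hone hJ hJ2
  obtain ⟨B, σ, hmem, hB4, hσ, hvals, hσ1, hsum, hdeg⟩ := KleinFour.principal P hV hone hM
  have hJs : 2 ∣ orderOf J := by rw [hJ2]
  have hBeq' : B' = B := by
    ext χ; rw [hmem', hmem]
  have haa : ∀ χ ∈ B, a' χ = σ χ := fun χ hχ => by
    have := (hval' χ (hBeq' ▸ hχ)).symm.trans (hvals χ hχ J hJs)
    exact_mod_cast this
  rw [hBeq', Finset.sum_congr rfl fun χ hχ => by rw [haa χ hχ]] at hS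
  have htriv : trivIrr G ∈ B := (hmem _).2 (trivIrr_mem_principal hM)
  set T := B.erase (trivIrr G) with hT
  have hT3 : T.card = 3 := by rw [hT, Finset.card_erase_of_mem htriv, hB4]
  have hTB : ∀ χ ∈ T, χ ∈ B := fun χ h => Finset.mem_of_mem_erase h
  have hTne : ∀ χ ∈ T, χ ≠ trivIrr G := fun χ h => Finset.ne_of_mem_erase h
  -- centralizer orders
  set c := Nat.card (Subgroup.centralizer ({J} : Set G)) with hc
  set d := Nat.card (Subgroup.centralizer ((P : Subgroup G) : Set G)) with hd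
  have hdc : d ∣ c := Subgroup.card_dvd_of_le fun g hg =>
    Subgroup.mem_centralizer_singleton_iff.2 ((Subgroup.mem_centralizer_iff.1 hg J hJ).symm)
  have hcn : c ∣ Nat.card G := Subgroup.card_subgroup_dvd_card _
  obtain ⟨d', hd'⟩ : 4 ∣ d := by
    rw [← hV.card_four]
    exact Subgroup.card_dvd_of_le fun x hx => Subgroup.mem_centralizer_iff.2 fun y hy =>
      (KleinFour.sylow_comm P hV hy hx).eq
  obtain ⟨c', hc'⟩ : 4 ∣ c := (Dvd.intro d' hd'.symm).trans hdc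
  have hc'm : c' ∣ m := Nat.dvd_of_mul_dvd_mul_left four_pos (hc' ▸ hcard ▸ hcn)
  have hd'c : d' ∣ c' := Nat.dvd_of_mul_dvd_mul_left four_pos (hd' ▸ hc' ▸ hdc)
  -- the degrees
  set x : Cfsg.IrrCharacter G → ℕ := fun χ => Cfsg.charDegree (χ : G → ℂ) with hx
  have hxC : ∀ χ, (x χ : ℂ) = (χ : G → ℂ) 1 := fun χ => charDegree_cast χ
  have hxdvd : ∀ χ ∈ T, x χ ∣ m ∧ 3 ≤ x χ ∧ ∃ k : ℤ, (x χ : ℤ) = σ χ + 4 * k := by
    intro χ hχ
    obtain ⟨k, hk⟩ := hdeg χ (hTB χ hχ)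
    have hk' : (x χ : ℤ) = σ χ + 4 * k := by rw [← hxC] at hk; exact_mod_cast hk
    have h1 : x χ ≠ 1 := fun e => (PrimeDegrees.simple_irr hG (hTne χ hχ)).2 (by
      rw [← hxC, e]; norm_num)
    have h0 : 0 < x χ := charDegree_pos χ
    refine ⟨?_, ?_, k, hk'⟩
    · have hodd : Odd (x χ) := by
        rcases hσ χ (hTB χ hχ) with e | e <;> rw [e] at hk' <;> rw [Nat.odd_iff] <;> omega
      exact ((Nat.Coprime.pow_right 2 (Nat.coprime_two_right.2 hodd)).dvd_of_dvd_mul_left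
        (hcard ▸ Degrees.charDegree_dvd_card χ))
    · rcases hσ χ (hTB χ hχ) with e | e <;> rw [e] at hk' <;> omega
  choose hxm hx3 k hk using hxdvd
  obtain ⟨χ₁, χ₂, χ₃, h12, h13, h23, hT'⟩ := Finset.card_eq_three.1 hT3
  have m1 : χ₁ ∈ T := by simp [hT']
  have m2 : χ₂ ∈ T := by simp [hT']
  have m3 : χ₃ ∈ T := by simp [hT']
  have hsumB : ∀ f : Cfsg.IrrCharacter G → ℂ,
      ∑ χ ∈ B, f χ = f (trivIrr G) + (f χ₁ + f χ₂ + f χ₃) := fun f => by
    rw [← Finset.add_sum_erase _ _ htriv, ← hT, hT', Finset.sum_insert (by simp [h12, h13]),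
      Finset.sum_insert (by simp [h23]), Finset.sum_singleton]
    ring
  have h0 := hsum 1
  rw [if_neg (by simp), hsumB] at h0
  rw [hsumB] at hS
  simp only [hσ1, ← hxC, show (x (trivIrr G) : ℂ) = 1 by rw [hxC]; rfl, Int.cast_one, mul_one,
    div_one] at h0 hS
  have hsq : ∀ χ ∈ T, (σ χ : ℂ) ^ 2 = 1 := fun χ hχ => by
    rcases hσ χ (hTB χ hχ) with e | e <;> rw [e] <;> norm_num
  have hne : ∀ χ, (x χ : ℂ) ≠ 0 := fun χ => Nat.cast_ne_zero.2 (charDegree_pos χ).ne'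
  have hdC : (d : ℂ) ^ 2 ≠ 0 := pow_ne_zero 2 (Nat.cast_ne_zero.2 Nat.card_pos.ne')
  rw [eq_div_iff hdC] at hS
  have key : ((Nat.card G : ℤ)) * (((x χ₁ : ℤ) + σ χ₁) * ((x χ₂ : ℤ) + σ χ₂) *
      ((x χ₃ : ℤ) + σ χ₃)) * (d : ℤ) ^ 2 = 8 * (c : ℤ) ^ 3 * (x χ₁ * x χ₂ * x χ₃) := by
    have hid : ((x χ₁ : ℂ) + σ χ₁) * ((x χ₂ : ℂ) + σ χ₂) * ((x χ₃ : ℂ) + σ χ₃) =
        (1 + ((σ χ₁ : ℂ) / x χ₁ + (σ χ₂ : ℂ) / x χ₂ + (σ χ₃ : ℂ) / x χ₃)) *
          ((x χ₁ : ℂ) * x χ₂ * x χ₃) := by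
      have := hne χ₁
      have := hne χ₂
      have := hne χ₃
      field_simp
      linear_combination ((σ χ₁ : ℂ) * σ χ₂ * σ χ₃) * h0 -
        (σ χ₂ : ℂ) * σ χ₃ * x χ₁ * hsq χ₁ m1 - (σ χ₁ : ℂ) * σ χ₃ * x χ₂ * hsq χ₂ m2 -
        (σ χ₁ : ℂ) * σ χ₂ * x χ₃ * hsq χ₃ m3
    have : (Nat.card G : ℂ) * (((x χ₁ : ℂ) + σ χ₁) * ((x χ₂ : ℂ) + σ χ₂) *
        ((x χ₃ : ℂ) + σ χ₃)) * (d : ℂ) ^ 2 = 8 * (c : ℂ) ^ 3 * (x χ₁ * x χ₂ * x χ₃) := by
      rw [hid, ← hS]; ring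
    exact_mod_cast this
  have hu : ∀ χ ∈ T, ∃ u : ℕ, (x χ : ℤ) + σ χ = 2 * u := fun χ hχ => by
    refine ⟨(σ χ + 2 * k χ hχ).toNat, ?_⟩
    have := hk χ hχ
    have := hx3 χ hχ
    rcases hσ χ (hTB χ hχ) with e | e <;> omega
  obtain ⟨u₁, q₁⟩ := hu χ₁ m1
  obtain ⟨u₂, q₂⟩ := hu χ₂ m2
  obtain ⟨u₃, q₃⟩ := hu χ₃ m3
  have hkey : m * d' ^ 2 * (u₁ * u₂ * u₃) = c' ^ 3 * (x χ₁ * x χ₂ * x χ₃) := by
    rw [q₁, q₂, q₃, hcard, hd', hc'] at key
    have : ((512 * (m * d' ^ 2 * (u₁ * u₂ * u₃)) : ℕ) : ℤ) =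
        ((512 * (c' ^ 3 * (x χ₁ * x χ₂ * x χ₃)) : ℕ) : ℤ) := by
      push_cast at key ⊢
      linear_combination key
    exact Nat.eq_of_mul_eq_mul_left (by norm_num) (Int.ofNat_inj.1 this)
  have hTX : ∀ χ ∈ T, TwoPr p q (x χ) := fun χ hχ => hTm.dvd (hxm χ hχ)
  have hTr : TwoPr p q (m * d' ^ 2 * (u₁ * u₂ * u₃)) := by
    rw [hkey, show c' ^ 3 = c' * c' * c' by ring]
    have hc'T := hTm.dvd hc'm
    exact ((hc'T.mul hc'T).mul hc'T).mul (((hTX _ m1).mul (hTX _ m2)).mul (hTX _ m3))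
  have hrel : 1 + σ χ₁ * x χ₁ + σ χ₂ * x χ₂ + σ χ₃ * x χ₃ = 0 := by
    have : (1 : ℂ) + σ χ₁ * x χ₁ + σ χ₂ * x χ₂ + σ χ₃ * x χ₃ = 0 := by linear_combination h0
    exact_mod_cast this
  have hcases := signs (hσ _ (hTB _ m1)) (hσ _ (hTB _ m2)) (hσ _ (hTB _ m3)) (hx3 _ m1)
    (hx3 _ m2) (hx3 _ m3) (hTX _ m1) (hTX _ m2) (hTX _ m3)
    (hTr.dvd ((Dvd.intro u₂ rfl).trans (Dvd.intro u₃ rfl) |>.mul_left _))
    (hTr.dvd ((Dvd.intro_left u₁ rfl).trans (Dvd.intro u₃ rfl) |>.mul_left _))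
    (hTr.dvd ((Dvd.intro_left (u₁ * u₂) rfl).mul_left _)) q₁ q₂ q₃ hrel
  obtain ⟨hmd, ψ₁, ψ₂, ψ₃, n12, n13, n23, hTψ, y1, y2, y3, s1, s2, s3⟩ :
      m * d' ^ 2 = 15 * c' ^ 3 ∧ ∃ ψ₁ ψ₂ ψ₃ : Cfsg.IrrCharacter G, ψ₁ ≠ ψ₂ ∧ ψ₁ ≠ ψ₃ ∧ ψ₂ ≠ ψ₃ ∧
        T = {ψ₁, ψ₂, ψ₃} ∧ x ψ₁ = 3 ∧ x ψ₂ = 3 ∧ x ψ₃ = 5 ∧ σ ψ₁ = -1 ∧ σ ψ₂ = -1 ∧ σ ψ₃ = 1 := by
    rcases hcases with ⟨a1, a2, a3, b1, b2, b3⟩ | ⟨a1, a3, a2, b1, b3, b2⟩ |
      ⟨a2, a3, a1, b2, b3, b1⟩ <;> rw [b1, a1] at q₁ <;> rw [b2, a2] at q₂ <;> rw [b3, a3] at q₃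
    · obtain rfl : u₁ = 1 := by omega
      obtain rfl : u₂ = 1 := by omega
      obtain rfl : u₃ = 3 := by omega
      rw [a1, a2, a3] at hkey
      exact ⟨by linarith, χ₁, χ₂, χ₃, h12, h13, h23, hT', a1, a2, a3, b1, b2, b3⟩
    · obtain rfl : u₁ = 1 := by omega
      obtain rfl : u₂ = 3 := by omega
      obtain rfl : u₃ = 1 := by omega
      rw [a1, a2, a3] at hkey
      exact ⟨by linarith, χ₁, χ₃, χ₂, h13, h12, Ne.symm h23,
        by rw [hT', Finset.pair_comm], a1, a3, a2, b1, b3, b2⟩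
    · obtain rfl : u₁ = 3 := by omega
      obtain rfl : u₂ = 1 := by omega
      obtain rfl : u₃ = 1 := by omega
      rw [a1, a2, a3] at hkey
      exact ⟨by linarith, χ₂, χ₃, χ₁, h23, Ne.symm h12, Ne.symm h13,
        by rw [hT']; ext; simp; tauto, a2, a3, a1, b2, b3, b1⟩
  have n1 : ψ₁ ∈ T := by simp [hTψ]
  have n2 : ψ₂ ∈ T := by simp [hTψ]
  have n3 : ψ₃ ∈ T := by simp [hTψ]
  -- indicators
  have hnu : ∑ χ ∈ B, (σ χ : ℂ) * FrobeniusSchur.nu (χ : G → ℂ) = 0 := by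
    simp only [FrobeniusSchur.nu, Finset.mul_sum]
    rw [Finset.sum_comm]
    refine Finset.sum_eq_zero fun s _ => ?_
    have h := hsum (s * s)
    rw [if_neg] at h
    · rw [Finset.sum_congr rfl fun χ _ => mul_left_comm _ _ _, ← Finset.mul_sum, h, mul_zero]
    · intro hd
      have h4 : 2 ∣ orderOf s := hd.trans (orderOf_dvd_of_pow_eq_one (by
        rw [← sq, ← pow_mul, mul_comm, pow_mul, pow_orderOf_eq_one, one_pow]))
      have ho : orderOf (s * s) = orderOf s / 2 := by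
        rw [← sq, orderOf_pow' s two_ne_zero, Nat.gcd_comm, Nat.gcd_eq_left h4]
      obtain ⟨w, hw, r, rfl, hc, -, hr⟩ := KleinFour.singular_ppart P hV hone h4
      rw [ho, hc.orderOf_mul_eq_mul_orderOf_of_coprime
        (by rw [hw]; exact Nat.prime_two.coprime_iff_not_dvd.2 hr), hw,
        Nat.mul_div_cancel_left _ two_pos] at hd
      exact hr hd
  have hodd : ∀ χ ∈ B, (∀ g : G, ((χ : G → ℂ) g).im = 0) → FrobeniusSchur.nu (χ : G → ℂ) = 1 := by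
    intro χ hχ hr
    haveI := Fintype.ofFinite (⊥ : Subgroup G)
    obtain ⟨k, hk⟩ := hdeg χ hχ
    have hk' : (x χ : ℤ) = σ χ + 4 * k := by
      rw [← hxC] at hk; exact_mod_cast hk
    have hod : Odd (x χ) := by
      rw [Nat.odd_iff]
      rcases hσ χ hχ with e | e <;> rw [e] at hk' <;> omega
    rw [IndicatorRestrict.nu_eq_of_mult_odd ⊥ χ (trivIrr (⊥ : Subgroup G)) hr
      (fun _ => by simp [trivIrr]) hod ?_]
    · simp [FrobeniusSchur.nu, trivIrr]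
    · rw [classInner_def, Fintype.sum_unique, Nat.card_unique, charDegree_cast]
      simp [trivIrr, Subgroup.mem_bot.1 (default : (⊥ : Subgroup G)).2]
  have hreal : ∀ χ : Cfsg.IrrCharacter G, FrobeniusSchur.conjIrr χ = χ →
      ∀ g : G, ((χ : G → ℂ) g).im = 0 := fun χ h g => by
    have h1 := congrFun (congrArg Subtype.val h) g
    change conj ((χ : G → ℂ) g) = _ at h1
    exact Complex.conj_eq_iff_im.1 h1
  have h3r : FrobeniusSchur.conjIrr ψ₃ = ψ₃ := by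
    have hval : ∀ g : G, (FrobeniusSchur.conjIrr ψ₃ : G → ℂ) g = conj ((ψ₃ : G → ℂ) g) :=
      fun g => rfl
    have hin : FrobeniusSchur.conjIrr ψ₃ ∈ B := by
      rw [hmem]
      by_contra hno
      have h := KleinFour.sum_singular_eq_zero P hV hone hM hno
      rw [Finset.sum_congr rfl fun g hg => by
        rw [hval, hvals ψ₃ (hTB _ n3) g (Finset.mem_filter.1 hg).2, map_intCast],
        Finset.sum_const, nsmul_eq_mul, s3] at h
      have := KleinFour.four_mul_card_singular P hV hone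
      rw [Int.cast_one, mul_one, Nat.cast_eq_zero] at h
      rw [h, mul_zero] at this
      exact Nat.card_pos.ne this
    have hdg : x (FrobeniusSchur.conjIrr ψ₃) = 5 := by
      rw [← y3]
      show ⌊(conj ((ψ₃ : G → ℂ) 1)).re⌋₊ = ⌊((ψ₃ : G → ℂ) 1).re⌋₊
      rw [Complex.conj_re]
    rcases eq_or_ne (FrobeniusSchur.conjIrr ψ₃) (trivIrr G) with e | e
    · rw [e] at hdg
      have : (x (trivIrr G) : ℂ) = 1 := by rw [hxC]; rfl
      rw [hdg] at this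
      norm_num at this
    have h := Finset.mem_erase.2 ⟨e, hin⟩
    rw [← hT, hTψ] at h
    simp only [Finset.mem_insert, Finset.mem_singleton] at h
    rcases h with h | h | h
    · rw [h, y1] at hdg; omega
    · rw [h, y2] at hdg; omega
    · exact h
  have h1r : ∀ g : G, ((ψ₁ : G → ℂ) g).im = 0 := by
    by_contra h1
    rw [← Finset.add_sum_erase _ _ htriv, ← hT, hTψ, Finset.sum_insert (by simp [n12, n13]),
      Finset.sum_insert (by simp [n23]), Finset.sum_singleton, hσ1, s1, s2, s3,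
      hodd _ htriv (fun _ => by simp [trivIrr]), hodd _ (hTB _ n3) (hreal _ h3r),
      FrobeniusSchur.nu_eq_zero_of_not_real ψ₁ h1] at hnu
    by_cases h2 : ∀ g : G, ((ψ₂ : G → ℂ) g).im = 0
    · rw [hodd _ (hTB _ n2) h2] at hnu
      norm_num at hnu
    · rw [FrobeniusSchur.nu_eq_zero_of_not_real ψ₂ h2] at hnu
      norm_num at hnu
  have hd3 : (ψ₁ : G → ℂ) 1 = 3 := by rw [← hxC, y1]; norm_num
  have hfaith := (PrimeDegrees.simple_irr hG (hTne _ n1)).1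
  have hre : ∀ g : G, conj ((ψ₁ : G → ℂ) g) = (ψ₁ : G → ℂ) g := fun g =>
    Complex.conj_eq_iff_im.2 (h1r g)
  -- odd primes do not divide the centralizer of `J`
  have h35 : ∀ r : ℕ, r.Prime → r ∣ c' → r = 3 ∨ r = 5 := by
    intro r hr hrc
    have e3 := hTX _ n1
    have e5 := hTX _ n3
    rw [y1] at e3
    rw [y3] at e5
    rcases e3 3 Nat.prime_three dvd_rfl with a3 | a3 <;>
      rcases e5 5 Nat.prime_five dvd_rfl with a5 | a5 <;>
      rcases hTm r hr (hrc.trans hc'm) with ar | ar <;> omega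
  have hc1 : c' = 1 := by
    by_contra hne
    obtain ⟨r, hr, hrc⟩ := Nat.exists_prime_and_dvd hne
    haveI := Fact.mk hr
    have hr35 := h35 r hr hrc
    have hrodd : Odd r := hr.odd_of_ne_two (by omega)
    obtain ⟨y, hy⟩ := exists_prime_orderOf_dvd_card' (G := Subgroup.centralizer ({J} : Set G)) r
      (by rw [← hc, hc']; exact hrc.mul_left 4)
    rw [← Subgroup.orderOf_coe] at hy
    obtain ⟨R, hR⟩ := (IsPGroup.of_card (n := 1) (show Nat.card (Subgroup.zpowers (y : G)) = r ^ 1 by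
      rw [Nat.card_zpowers, hy, pow_one])).exists_le_sylow
    have hyR : (y : G) ∈ (R : Subgroup G) := hR (Subgroup.mem_zpowers _)
    haveI : Nontrivial (R : Subgroup G) := ⟨⟨(y : G), hyR⟩, 1, fun e => by
      rw [show (y : G) = 1 from congrArg Subtype.val e, orderOf_one] at hy
      exact hr.ne_one hy.symm⟩
    haveI := R.isPGroup'.center_nontrivial
    obtain ⟨j, hj0, hj⟩ :=
      (R.isPGroup'.to_subgroup (Subgroup.center (R : Subgroup G))).nontrivial_iff_card.1 this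
    obtain ⟨z, hz⟩ := exists_prime_orderOf_dvd_card' (G := Subgroup.center (R : Subgroup G)) r
      (by rw [hj]; exact dvd_pow_self r hj0.ne')
    rw [← Subgroup.orderOf_coe, ← Subgroup.orderOf_coe] at hz
    set z' : G := ((z : (R : Subgroup G)) : G) with hz'
    have hRz : ∀ g ∈ (R : Subgroup G), g * z' = z' * g := fun g hg =>
      congrArg Subtype.val (Subgroup.mem_center_iff.1 z.2 ⟨g, hg⟩)
    have hzne : z' ≠ 1 := fun e => by rw [e, orderOf_one] at hz; exact hr.ne_one hz.symm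
    have hyne : (y : G) ≠ 1 := fun e => by rw [e, orderOf_one] at hy; exact hr.ne_one hy.symm
    have hRJ : (R : Subgroup G) ≤ Subgroup.centralizer ({J} : Set G) := fun g hg => by
      rw [Subgroup.mem_centralizer_singleton_iff]
      exact comm_of_real_three ψ₁ hfaith hd3 hre (hy ▸ hrodd) hyne
        (comm_of_real_three ψ₁ hfaith hd3 hre (hz ▸ hrodd) hzne (hRz g hg) (hRz _ hyR))
        (Subgroup.mem_centralizer_singleton_iff.1 y.2).symm
    have hd'0 : d' ≠ 0 := fun e => by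
      rw [e, mul_zero] at hd'; exact Nat.card_pos.ne' hd'
    have hc'0 : c' ≠ 0 := fun e => by
      rw [e, mul_zero] at hc'; exact Nat.card_pos.ne' hc'
    have hle : (4 * m).factorization r ≤ (4 * c').factorization r := by
      rw [← hcard, ← hc', ← hr.pow_dvd_iff_le_factorization Nat.card_pos.ne',
        ← R.card_eq_multiplicity]
      exact Subgroup.card_dvd_of_le hRJ
    have hge : c'.factorization r ≤ m.factorization r :=
      Finsupp.le_def.1 ((Nat.factorization_le_iff_dvd hc'0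
        hmodd.pos.ne').2 hc'm) r
    have h := congrArg (fun t => t.factorization r) hmd
    simp only [Nat.factorization_mul hmodd.pos.ne' (pow_ne_zero 2 hd'0),
      Nat.factorization_mul (show 15 ≠ 0 by norm_num) (pow_ne_zero 3 hc'0),
      Nat.factorization_pow, Finsupp.add_apply, Finsupp.smul_apply, smul_eq_mul] at h
    simp only [Nat.factorization_mul (show 4 ≠ 0 by norm_num) hmodd.pos.ne',
      Nat.factorization_mul (show 4 ≠ 0 by norm_num) hc'0, Finsupp.add_apply] at hle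
    have h15 : (15 : ℕ).factorization r = 1 := by
      rw [show 15 = 3 * 5 by norm_num, Nat.factorization_mul (by norm_num) (by norm_num),
        Finsupp.add_apply, Nat.prime_three.factorization, Nat.prime_five.factorization]
      rcases hr35 with rfl | rfl <;> simp
    omega
  subst hc1
  obtain rfl : d' = 1 := Nat.dvd_one.1 hd'c
  rw [hcard]
  omega

end Cfsg.Agent.BlocksChars.CofactorFourThree
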