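import Mathlib
import Cfsg.Agent.Lib.PrimeBlock.ThreePrimes
import Cfsg.Agent.Lib.PrimeBlock.Tools
import Cfsg.Agent.Lib.SmallSimple.PSqQR
import Cfsg.Agent.BlocksChars.CofactorFourThree.Klein

/-!
# Simple groups of order three or four times two prime powers
-/

set_option autoImplicit false
set_option linter.style.haveILetI false

namespace Cfsg.Agent.BlocksChars.CofactorFourThree

open Cfsg.Agent.SmallSimple Cfsg.Agent.Characters Cfsg.Agent.Blocks

universe u

variable {G : Type u} [Group G] [Finite G] [IsSimpleGroup G]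

theorem four_sixty (hG : ¬ IsMulCommutative G) {p q a b : ℕ} (hp : p.Prime) (hq : q.Prime)
    (hcard : Nat.card G = 4 * p ^ a * q ^ b) : Nat.card G = 60 := by
  by_cases hp2 : p = 2
  · subst hp2
    exact absurd (PSqQR.two_primes (a := 2 + a) (b := b) Nat.prime_two hq (by rw [hcard, pow_add]; norm_num)) hG
  by_cases hq2 : q = 2
  · subst hq2
    exact absurd (PSqQR.two_primes (a := a) (b := 2 + b) hp Nat.prime_two
      (by rw [hcard, pow_add]; ring)) hG
  exact four_case (fun h => hG ⟨⟨h⟩⟩) hp hq hp2 hq2 (hcard.trans (mul_assoc _ _ _))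

/-- Two consecutive numbers prime to 3 with prime divisors among 2 and `p`. -/
theorem consecutive {p b x f : ℕ} (hp : p.Prime) (hp2 : p ≠ 2) (hp3 : p ≠ 3)
    (hx : x ∣ p ^ 2 * 2 ^ b) (hf : f ∣ p ^ 2 * 2 ^ b) (hx3 : ¬ 3 ∣ x) (hf3 : ¬ 3 ∣ f)
    (hx1 : 2 ≤ x) (hf1 : 2 ≤ f) (h : f = x + 1 ∨ x = f + 1) : x = p ∨ f = p := by
  have key : ∀ {o v : ℕ}, o ∣ p ^ 2 * 2 ^ b → v ∣ p ^ 2 * 2 ^ b → ¬ 3 ∣ v → Odd o → 2 ≤ o →
      (v = o + 1 ∨ o = v + 1) → o = p := by
    intro o v ho hv hv3 hodd ho1 hov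
    have h1 : o ∣ p ^ 2 := (Nat.Coprime.pow_right b (Nat.coprime_two_right.2 hodd)).dvd_of_dvd_mul_right ho
    obtain ⟨i, hi, rfl⟩ := (Nat.dvd_prime_pow hp).1 h1
    interval_cases i
    · rw [pow_zero] at ho1; omega
    · exact pow_one p
    have hvp : ¬ p ∣ v := fun hd => by
      refine hp.not_dvd_one ?_
      have hd2 : p ∣ p ^ 2 := dvd_pow_self p two_ne_zero
      rcases hov with e | e
      · exact (Nat.dvd_add_right hd2).1 (e ▸ hd)
      · exact (Nat.dvd_add_right hd).1 (e ▸ hd2)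
    have h2 : v ∣ 2 ^ b :=
      ((Nat.Coprime.pow_left 2 (hp.coprime_iff_not_dvd.2 hvp)).symm).dvd_of_dvd_mul_left hv
    obtain ⟨k, -, rfl⟩ := (Nat.dvd_prime_pow Nat.prime_two).1 h2
    obtain ⟨j, hj⟩ := hp.odd_of_ne_two hp2
    have hm : p % 3 = 1 ∨ p % 3 = 2 := by
      have : ¬ 3 ∣ p := fun e => hp3 ((Nat.prime_dvd_prime_iff_eq Nat.prime_three hp).1 e).symm
      omega
    have hsq : p ^ 2 % 3 = 1 := by
      rcases hm with e | e <;> rw [Nat.pow_mod, e]
    rcases hov with e | e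
    · rcases k with _ | _ | k
      · omega
      · omega
      · have : p ^ 2 = 4 * (j * j + j) + 1 := by rw [hj]; ring
        rw [pow_succ, pow_succ] at e
        omega
    · omega
  rcases Nat.even_or_odd x with ⟨r, hr⟩ | hodd
  · exact Or.inr (key hf hx hx3 (Nat.odd_iff.2 (by omega)) hf1 (by omega))
  · exact Or.inl (key hx hf hf3 hodd hx1 (by omega))

theorem three_orders (hG : ¬ IsMulCommutative G) {p q a b : ℕ} (hp : p.Prime) (hq : q.Prime)
    (hpq : p ≠ q) (ha : a ≤ 2) (hcard : Nat.card G = 3 * p ^ a * q ^ b) :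
    Nat.card G = 60 ∨ Nat.card G = 168 := by
  classical
  by_cases hp3 : p = 3
  · subst hp3
    exact absurd (PSqQR.two_primes (a := 1 + a) (b := b) Nat.prime_three hq
      (by rw [hcard, pow_add, pow_one])) hG
  by_cases hq3 : q = 3
  · subst hq3
    exact absurd (PSqQR.two_primes (a := a) (b := 1 + b) hp Nat.prime_three
      (by rw [hcard, pow_add]; ring)) hG
  by_cases hp2 : p = 2
  · subst hp2
    interval_cases a
    · exact absurd (PSqQR.two_primes (a := 1) (b := b) Nat.prime_three hq (by rw [hcard]; ring)) hG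
    · exfalso
      haveI := Fact.mk Nat.prime_two
      have hodd : ¬ 2 ∣ 3 * q ^ b := by
        rw [Nat.prime_two.dvd_mul, not_or]
        exact ⟨by norm_num, fun h => hpq ((Nat.prime_dvd_prime_iff_eq Nat.prime_two hq).1
          (Nat.prime_two.dvd_of_dvd_pow h))⟩
      obtain ⟨P⟩ : Nonempty (Sylow 2 G) := inferInstance
      have hP : Nat.card (P : Subgroup G) = 2 := by
        rw [Basic.card_sylow_eq_pow (a := 1) (m := 3 * q ^ b) (by rw [hcard]; ring) hodd P, pow_one]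
      exact PSqQR.minFac_noncyclic hG Nat.prime_two (Dvd.intro (3 * q ^ b) (by rw [hcard]; ring))
        (fun s hs _ => hs.two_le) P (isCyclic_of_prime_card hP)
    · exact Or.inl (four_sixty hG Nat.prime_three hq (a := 1) (b := b) (by rw [hcard]; ring))
  haveI := Fact.mk Nat.prime_three
  have hm3 : ¬ 3 ∣ p ^ a * q ^ b := fun h => by
    rcases Nat.prime_three.dvd_mul.1 h with h | h
    · exact hp3 ((Nat.prime_dvd_prime_iff_eq Nat.prime_three hp).1
        (Nat.prime_three.dvd_of_dvd_pow h)).symm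
    · exact hq3 ((Nat.prime_dvd_prime_iff_eq Nat.prime_three hq).1
        (Nat.prime_three.dvd_of_dvd_pow h)).symm
  by_cases hq2 : q ≠ 2
  · exfalso
    obtain ⟨P⟩ : Nonempty (Sylow 3 G) := inferInstance
    have hP : Nat.card (P : Subgroup G) = 3 := by
      rw [Basic.card_sylow_eq_pow (a := 1) (by rw [pow_one, hcard, mul_assoc]) hm3 P, pow_one]
    obtain ⟨e, he, he1, hN, -⟩ := Centralize.centralizer_data hG P hP
    obtain rfl : e = 2 := by
      have := Nat.le_of_dvd two_pos (by simpa using he)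
      omega
    have hev : 2 ∣ 3 * p ^ a * q ^ b := hcard ▸ (Dvd.intro_left _ hN.symm).trans
      (Subgroup.card_subgroup_dvd_card _)
    have hodd : Odd (3 * p ^ a * q ^ b) :=
      ((show Odd 3 by decide).mul (hp.odd_of_ne_two hp2).pow).mul (hq.odd_of_ne_two hq2).pow
    rw [Nat.odd_iff] at hodd
    omega
  rw [not_not] at hq2
  subst hq2
  interval_cases a
  · exact absurd (PSqQR.two_primes (a := 1) (b := b) Nat.prime_three Nat.prime_two
      (by rw [hcard]; ring)) hG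
  · exact PrimeBlock.card_eq_of_lt hG Nat.prime_three hp Nat.prime_two (by norm_num) hp2
      (by have := hp.two_le; omega) (by rw [hcard, pow_one])
  exfalso
  obtain ⟨P, D₀, he0⟩ := PrimeBlock.exists_pblock_simple hG
    (show Nat.card G = 3 * (p ^ 2 * 2 ^ b) by rw [hcard]; ring) hm3
  obtain ⟨D, htX, hts⟩ := PrimeBlock.exists_pblock' hG D₀.odd P D₀.card_P
  have he : D.e = 2 := by
    have h1 : D.e = D₀.e := D.he.symm.trans D₀.he
    have := D.e_lt
    omega
  obtain ⟨θ, hθ⟩ := D.Y_nonempty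
  obtain ⟨χ, hχ⟩ : ∃ χ, D.X.erase (trivIrr G) = {χ} := Finset.card_eq_one.1 (by
    rw [Finset.card_erase_of_mem htX, D.card_X, he])
  have hχX : χ ∈ D.X := Finset.mem_of_mem_erase (hχ ▸ Finset.mem_singleton_self χ)
  have hχne : χ ≠ trivIrr G := Finset.ne_of_mem_erase (hχ ▸ Finset.mem_singleton_self χ)
  have hθne : θ ≠ trivIrr G := fun e => Finset.disjoint_left.1 D.disj htX (e ▸ hθ)
  have hrel := D.rel_one hθ
  rw [← Finset.add_sum_erase _ _ htX, hχ, Finset.sum_singleton, hts, PrimeBlock.deg_trivIrr] at hrel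
  have hpos : ∀ {ψ : Cfsg.IrrCharacter G}, ψ ≠ trivIrr G → 2 ≤ PrimeBlock.deg ψ := fun {ψ} h => by
    have := charDegree_pos ψ
    have h1 := PrimeBlock.deg_ne_one hG h
    show 2 ≤ PrimeBlock.deg ψ
    unfold PrimeBlock.deg at h1 ⊢
    omega
  have hblk : ∀ {ψ : Cfsg.IrrCharacter G}, ψ ∈ Cfsg.principalBlock D.M G →
      PrimeBlock.deg ψ ∣ p ^ 2 * 2 ^ b := fun {ψ} h => by
    have h1 : PrimeBlock.deg ψ ∣ 3 * (p ^ 2 * 2 ^ b) := by
      rw [show 3 * (p ^ 2 * 2 ^ b) = Nat.card G by rw [hcard]; ring]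
      exact char_degree_dvd_card ψ
    exact ((Nat.prime_three.coprime_iff_not_dvd.2 (D.not_dvd_deg h)).symm).dvd_of_dvd_mul_left h1
  have hχB : χ ∈ Cfsg.principalBlock D.M G := (D.mem_block χ).2 (Or.inl hχX)
  have hθB : θ ∈ Cfsg.principalBlock D.M G := (D.mem_block θ).2 (Or.inr hθ)
  have hx1 := hpos hχne
  have hf1 := hpos hθne
  have hor : PrimeBlock.deg θ = PrimeBlock.deg χ + 1 ∨ PrimeBlock.deg χ = PrimeBlock.deg θ + 1 := by
    rcases D.ε_eq with e | e <;> rcases D.sgn_eq χ hχX with e' | e' <;> rw [e, e'] at hrel <;> omega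
  have hdp : ∃ ψ : Cfsg.IrrCharacter G, PrimeBlock.deg ψ = p :=
    (consecutive hp hp2 hp3 (hblk hχB) (hblk hθB) (D.not_dvd_deg hχB) (D.not_dvd_deg hθB) hx1 hf1
      hor).elim (fun h => ⟨χ, h⟩) fun h => ⟨θ, h⟩
  obtain ⟨ψ, hψ⟩ := hdp
  haveI := Fact.mk hp
  obtain ⟨Q⟩ : Nonempty (Sylow p G) := inferInstance
  have hQ : Nat.card (Q : Subgroup G) = p := BlocksChars.PrimeDegrees.sylow_card
    (fun h => hG ⟨⟨h⟩⟩) (by rw [← PrimeBlock.deg_cast, hψ]) Q
  have hm : ¬ p ∣ 3 * 2 ^ b := fun h => by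
    rcases hp.dvd_mul.1 h with h | h
    · exact hp3 ((Nat.prime_dvd_prime_iff_eq hp Nat.prime_three).1 h)
    · exact hp2 ((Nat.prime_dvd_prime_iff_eq hp Nat.prime_two).1 (hp.dvd_of_dvd_pow h))
  rw [Basic.card_sylow_eq_pow (a := 2) (m := 3 * 2 ^ b) (by rw [hcard]; ring) hm Q, pow_two] at hQ
  have := hp.two_le
  nlinarith

end Cfsg.Agent.BlocksChars.CofactorFourThree
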